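import Mathlib
import Cfsg.Agent.Lib.MultC.Model
import Cfsg.Agent.Lib.J2.Q.Data

/-! permutation model of degree 100: generators and a stabiliser chain (generated) -/

set_option autoImplicit false
set_option maxRecDepth 100000
set_option Elab.async false

namespace CfsgLib.MultC.J2

open CfsgLib.Comput CfsgLib.MultC

noncomputable def u1_0 : Net :=
  Net.cons 1 0x1101545450400405004015440
  (Net.cons 2 0x31122230222321013020010
  (Net.cons 4 0x806000c040c040608060108
  (Net.cons 8 0xd800a400d800d10086000c
  (Net.cons 16 0x910c0000108700000008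
  (Net.cons 32 0x20000000040c95300
  (Net.cons 64 0x7dcdd7e3
  (Net.cons 32 0xe00000000cda61450
  (Net.cons 16 0xb96d000062a2000059c7
  (Net.cons 8 0x4d008c008d00b00067006f
  (Net.cons 4 0xa0c03040b080b050d050b00
  (Net.cons 2 0x1000113231013301003322331
  (Net.cons 1 0x5055451155014100010551551
  (Net.nil)))))))))))))

noncomputable def u1_1 : Net :=
  Net.cons 1 0x4411440054140010054545044
  (Net.cons 2 0x1332013200102310102102100
  (Net.cons 4 0xd080d050d0c0c0d050200
  (Net.cons 8 0x40004700cf002900960000
  (Net.cons 16 0xaa8c0000244900000003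
  (Net.cons 32 0x30101d10
  (Net.cons 64 0xf3319f9a
  (Net.cons 32 0x70000000045838fcc
  (Net.cons 16 0xef2600006eb40000404c
  (Net.cons 8 0x4f00cb0047007d00e9002d
  (Net.cons 4 0xc0f0f0f030e080f0f070b03
  (Net.cons 2 0x2232113002103323111112123
  (Net.cons 1 0x5111111411044510441441015
  (Net.nil)))))))))))))

noncomputable def u2_0 : Net :=
  Net.cons 1 0x150151414044500515014144
  (Net.cons 2 0x313330130031001100103300
  (Net.cons 4 0x5060b04030a03060f0a0901
  (Net.cons 8 0xe7002c0063000c00950008
  (Net.cons 16 0x274800004f4200000006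
  (Net.cons 32 0x70000000031c4c090
  (Net.cons 64 0xb7beed5b4
  (Net.cons 32 0x4000000005df9d2f3
  (Net.cons 16 0x93c20000d29900008801
  (Net.cons 8 0xab00c300c300f000b900c6
  (Net.cons 4 0x90406090e020a060f040405
  (Net.cons 2 0x21010133110211212320012
  (Net.cons 1 0x5144155455041500504451010
  (Net.nil)))))))))))))

noncomputable def u2_1 : Net :=
  Net.cons 1 0x551150104001014550505140
  (Net.cons 2 0x231332221002323203002000
  (Net.cons 4 0x604050d0c080c0e03030302
  (Net.cons 8 0x6800310031002a00420001
  (Net.cons 16 0x424b0000118000000004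
  (Net.cons 32 0x80000000091144200
  (Net.cons 64 0x993f57220
  (Net.cons 32 0x600000000549b7259
  (Net.cons 16 0x4d6800007e8800004afe
  (Net.cons 8 0xbb004b007300e800c00011
  (Net.cons 4 0xe09080c0f09030a09070806
  (Net.cons 2 0x1122323130212331111200030
  (Net.cons 1 0x400111411044151005151054
  (Net.nil)))))))))))))

noncomputable def u3_0 : Net :=
  Net.cons 1 0x441115415100541055451140
  (Net.cons 2 0x20021220222003201030010
  (Net.cons 4 0x2080e00080e0606040c0500
  (Net.cons 8 0x40002d00b20004008c0007
  (Net.cons 16 0xc2680000643000000004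
  (Net.cons 32 0x4000000000b98c700
  (Net.cons 64 0x24ffce797
  (Net.cons 32 0x700000000ccbe3f86
  (Net.cons 16 0x11490000f63800004cf7
  (Net.cons 8 0x8800ee00a700c600cb007b
  (Net.cons 4 0x203070f0d07050202050908
  (Net.cons 2 0x132223031030330323302320
  (Net.cons 1 0x1141515405541145055400440
  (Net.nil)))))))))))))

noncomputable def u3_1 : Net :=
  Net.cons 1 0x110444545004455405555050
  (Net.cons 2 0x2231331213231300331221100
  (Net.cons 4 0x70400070a010d0805040108
  (Net.cons 8 0x48006c00510076009c000d
  (Net.cons 16 0xad070000443200000004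
  (Net.cons 32 0xc2640b10
  (Net.cons 64 0xfcf74bb5d
  (Net.cons 32 0x7000000009803271c
  (Net.cons 16 0x534e00003edc0000ac50
  (Net.cons 8 0x3800cb003d00c800ca0069
  (Net.cons 4 0xb050000050104070a000d04
  (Net.cons 2 0x213200012130222210223200
  (Net.cons 1 0x1411454101140415441555054
  (Net.nil)))))))))))))

noncomputable def u4_0 : Net :=
  Net.cons 1 0x4414555145140145554111010
  (Net.cons 2 0x101330100131103020100110
  (Net.cons 4 0x5040203000f040b0803020c
  (Net.cons 8 0x3f00e200ce00e000500000
  (Net.cons 16 0x41800000831000000005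
  (Net.cons 32 0x10000000058a90080
  (Net.cons 64 0xedaad0981
  (Net.cons 32 0xd00000000da5775c4
  (Net.cons 16 0x39c2000090740000085d
  (Net.cons 8 0xd500a100c5008400580008
  (Net.cons 4 0xf090e00030e000d0c090708
  (Net.cons 2 0x2003130101131312310010310
  (Net.cons 1 0x505055004000155110104050
  (Net.nil)))))))))))))

noncomputable def V0 : List Net := [nth Net.nil CfsgLib.J2.Q.W 0, nth Net.nil CfsgLib.J2.Q.W 1, nth Net.nil CfsgLib.J2.Q.W 2, nth Net.nil CfsgLib.J2.Q.W 3]
noncomputable def U0 : List Net := (V0 ++ revL V0)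
noncomputable def V1 : List Net := [u1_0, u1_1]
noncomputable def U1 : List Net := U0 ++ (V1 ++ revL V1)
noncomputable def V2 : List Net := [u2_0, u2_1]
noncomputable def U2 : List Net := U1 ++ (V2 ++ revL V2)
noncomputable def V3 : List Net := [u3_0, u3_1]
noncomputable def U3 : List Net := U2 ++ (V3 ++ revL V3)
noncomputable def V4 : List Net := [u4_0]
noncomputable def U4 : List Net := U3 ++ (V4 ++ revL V4)
noncomputable def U : List Net := U4

theorem v1 : wordsOK 100 7 U0 V1 [[0x203040301020407], [0x3040102040103020502]] = true := by decide +kernel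
theorem v2 : wordsOK 100 7 U1 V2 [[0xc060a05090409], [0x70c090a02070c0901090a]] = true := by decide +kernel
theorem v3 : wordsOK 100 7 U2 V3 [[0x10100f0e0e0e0f100d], [0xd0e0e0f0f0f0e0f10]] = true := by decide +kernel
theorem v4 : wordsOK 100 7 U3 V4 [[0x1413131411141313]] = true := by decide +kernel

theorem realU {G Ω : Type*} [Group G] [MulAction G Ω] {pt : ℕ → Ω} (h : AllReal G 100 pt V0) :
    AllReal G 100 pt U := by
  have h0 : AllReal G 100 pt U0 := h.append h.rev
  have k1 : AllReal G 100 pt V1 := h0.words (by norm_num) v1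
  have h1 : AllReal G 100 pt U1 := h0.append (k1.append k1.rev)
  have k2 : AllReal G 100 pt V2 := h1.words (by norm_num) v2
  have h2 : AllReal G 100 pt U2 := h1.append (k2.append k2.rev)
  have k3 : AllReal G 100 pt V3 := h2.words (by norm_num) v3
  have h3 : AllReal G 100 pt U3 := h2.append (k3.append k3.rev)
  have k4 : AllReal G 100 pt V4 := h3.words (by norm_num) v4
  have h4 : AllReal G 100 pt U4 := h3.append (k4.append k4.rev)
  exact h4

end CfsgLib.MultC.J2
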