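import Mathlib
import Cfsg.Agent.Lib.MultC.J2.OutD

/-! generated certificate -/

set_option autoImplicit false
set_option maxRecDepth 100000
set_option Elab.async false

namespace CfsgLib.MultC.J2.O

open CfsgLib.Comput CfsgLib.MultC

open CfsgLib.Fischer

theorem v1 : wordsOK 100 7 U0 V1 [[0x105040604030501030201], [0x60105010202]] = true := by decide +kernel
theorem v2 : wordsOK 100 7 U1 V2 [[0x9080908090a0a0a], [0x90a0908080707]] = true := by decide +kernel
theorem v3 : wordsOK 100 7 U2 V3 [[0xe0b0b0b]] = true := by decide +kernel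
theorem v4 : wordsOK 100 7 U3 V4 [[0x10103020108070c0c0b0b]] = true := by decide +kernel
theorem lb : Nat.ble 604800 (lbVal (stepH W) 100 (toLB L0) []) = true := by decide +kernel
theorem lv0 : levOK (stepH W) 100 lev0 (letL (lev0 :: L1)) = true := by decide +kernel
theorem lv1 : levOK (stepH W) 100 lev1 (letL (lev1 :: L2)) = true := by decide +kernel
theorem lv2 : levOK (stepH W) 100 lev2 (letL (lev2 :: L3)) = true := by decide +kernel
theorem lv3 : levOK (stepH W) 100 lev3 (letL (lev3 :: [])) = true := by decide +kernel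
theorem hl : D.lOK (stepH W) (baseL L0) = true := by decide +kernel
theorem hb : D.basic (stepH W) 100 (baseL L0) = true := by decide +kernel
theorem a0 : eqOn (stepH W) (baseL L0) (1 :: [0x101, 0xa070808, 0xc0b, 0], [0x101, 0xa070808, 0xc0b, 0] ++ [17]) = true := by decide +kernel
theorem a1 : powOK (stepH W) (baseL L0) 17 ma = true := by decide +kernel
theorem l1 : powOK (stepH W) (baseL L0) D.wl ml = true := by decide +kernel
noncomputable def ta1 : CT :=
  (.br 0 [17, 0x1111, 0x121212] 1 0 0 0 (.ch 48 0 (.frc 18 0 21 0 (.frc 18 0 47 0 (.frc 18 0 30 0 (.leaf 0)))) (.ch 0 0x4060201 (.ref 17 0 0) (.ch 1 0x4060105 (.ref 0x1111 0 0) (.ch 2 0x10602 (.ref 17 0 0) (.ch 3 0x406010505 (.ref 17 0 0) (.ch 4 0x4060404 (.ref 0x1111 0 0) (.ch 5 0x406 (.ref 17 0 0) (.ch 6 0x4020106 (.ref 17 0 0) (.ch 7 0x40201 (.ref 0x1111 0 0) (.ch 8 0x404 (.ref 0x111111 0 0) (.ch 9 2 (.ref 17 0 0) (.ch 10 0x4050601 (.frc 18 0 96 0x807 (.frc 18 0 27 0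 (.ref 18 0 0))) (.ch 18 0x4060106 (.ref 0x1111 0 0) (.cy 24 17 (.ch 31 0x506 (.ref 0x111111 0 0) (.cy 61 17 .nil)))))))))))))))))
theorem ca1 : CT.chk (stepH W) 100 (msk ma) [0] ta1 false L0 [] [] = true := by decide +kernel
noncomputable def tl2 : CT :=
  (.br 0 [2, 0x202, 0x505] 1 0 0 0 (.ch 48 0 (.frc 2 0 21 0 (.frc 2 0 47 0 (.frc 2 0 30 0 (.leaf 0)))) (.ch 0 0x4060201 (.ref 0x20202 0 0) (.ch 1 0x4060105 (.frc 2 0 3 0x90a0a07 (.ref 2 0 0)) (.ch 2 0x10602 (.frc 2 0 73 0x9080808 (.frc 2 0 97 0xe0e0e (.ref 2 0 0))) (.ch 4 0x4060404 (.ref 0x20202 0 0) (.ch 5 0x406 (.ref 2 0 0) (.ch 6 0x4020106 (.ref 2 0 0) (.ch 7 0x40201 (.ref 2 0 0) (.ch 8 0x404 (.frc 2 0 15 8 (.frc 2 0 31 0 (.frc 2 0 46 0 (.leaf 1)))) (.ch 11 0x405050601 (.ref 0x20202 0 0) (.ch 12 0x60106 (.frc 2 0 79 0x90809 (.frc 2 0 74 0 (.ref 2 0 0))) (.ch 16 0x101060106 (.frc 2 0 60 0xa090a (.ref 2 0 0)) (.ch 17 0x40505050601 (.ref 0x20202 0 0) (.ch 20 0x4050106 (.ref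 2 0 0) (.ch 28 0x40202 (.ref 2 0 0) (.ch 36 0x20402 (.ref 2 0 0) (.cy 65 0x202 (.cy 80 0x202 .nil)))))))))))))))))))
theorem cl2 : CT.chk (stepH W) 100 (msk ml) D.V tl2 false L0 [] [] = true := by decide +kernel
theorem cand0 : allIn (D.candOK (stepH W) 100) 0 12 = true := by decide +kernel
theorem sok : sN.ok 100 = true := by decide +kernel
theorem n0 : normOK 100 7 W sN [1] [1] = true := by decide +kernel
theorem n1 : normOK 100 7 W sN [2] [2] = true := by decide +kernel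
theorem n2 : normOK 100 7 W sN [3] [0x3020202] = true := by decide +kernel
theorem ni0 : allIn (D.nonInn (stepH W) 100 [1] [0x3020202]) 0 12 = true := by decide +kernel

end CfsgLib.MultC.J2.O
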