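import Mathlib
import Cfsg.Agent.Lib.MultC.Cover
import Cfsg.Agent.Lib.J2.Q.Cert
import Cfsg.Agent.Lib.MultC.Pkg
import Cfsg.Agent.Lib.J2.Q.Main

/-! a projective permutation representation (generated) -/

set_option autoImplicit false
set_option maxRecDepth 100000
set_option Elab.async false

namespace CfsgLib.MultC.J2.Cov

open CfsgLib.Comput CfsgLib.MultC

open CfsgLib.J2.Q

noncomputable def a0_0 : Net :=
  Net.cons 1 0x50144044105044105014400
  (Net.cons 2 0x202030100112030113002000
  (Net.cons 4 0xe030a0007000d0d03000800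
  (Net.cons 8 0x81000a000100da00090000
  (Net.cons 16 0x80100000a01600000000
  (Net.cons 32 0x20000000000008850
  (Net.cons 64 0x200008850
  (Net.cons 32 0x200000000e09fc850
  (Net.cons 16 0xe0110000943e00001f00
  (Net.cons 8 0x8b00ab00210078008300a0
  (Net.cons 4 0xe030a03070c050d09080204
  (Net.cons 2 0x2302032300132210331020222
  (Net.cons 1 0x40145454105044105014400
  (Net.nil)))))))))))))

noncomputable def r0 : Net :=
  Net.cons 100 0xa5a021676167985cc73876de4
  (Net.nil)

noncomputable def y0 : Net := catN r0 (a0_0.widen (ones 100 2))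

noncomputable def a1_0 : Net :=
  Net.cons 1 0x1150450011004044404101050
  (Net.cons 2 0x2010200202203131210012000
  (Net.cons 4 0x408080b01020c0105050000
  (Net.cons 8 0xc000500094001200360000
  (Net.cons 16 0x11080000827000000000
  (Net.cons 32 0x20000000051000480
  (Net.cons 64 0x251000480
  (Net.cons 32 0xa00000000d3ff2480
  (Net.cons 16 0xb94800000a6900007f00
  (Net.cons 8 0xc60041000d002b00870080
  (Net.cons 4 0x508090a000b0502040e0306
  (Net.cons 2 0x2010200202203131210012000
  (Net.cons 1 0x5150450011004044404101050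
  (Net.nil)))))))))))))

noncomputable def r1 : Net :=
  Net.cons 100 0x2f97d166dc86d5b4d437ca7ad
  (Net.nil)

noncomputable def y1 : Net := catN r1 (a1_0.widen (ones 100 2))

noncomputable def a2_0 : Net :=
  Net.cons 1 0x4140450015541001050411000
  (Net.cons 2 0x1302013202003320312311300
  (Net.cons 4 0x80a0b0a0f01010907080200
  (Net.cons 8 0x600100004006800180000
  (Net.cons 16 0x60000007000000000
  (Net.cons 32 0x80000000002820510
  (Net.cons 64 0x802820510
  (Net.cons 32 0xc00000000a2fb0510
  (Net.cons 16 0x80060000196500001b00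
  (Net.cons 8 0x4e0070000500f8000d00e4
  (Net.cons 4 0x80a0a0a0e04000a06090300
  (Net.cons 2 0x3302013202003320312311300
  (Net.cons 1 0x4540450055541001050411001
  (Net.nil)))))))))))))

noncomputable def r2 : Net :=
  Net.cons 100 0x11820a46cb204e3a320e20600
  (Net.nil)

noncomputable def y2 : Net := catN r2 (a2_0.widen (ones 100 2))

noncomputable def a3_0 : Net :=
  Net.cons 1 0x5115011455415140401010400
  (Net.cons 2 0x1011210001131231100020200
  (Net.cons 4 0x40104030000080500080000
  (Net.cons 8 0x2c009e0002004e00000000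
  (Net.cons 16 0xb70000100300000004
  (Net.cons 32 0xb0000000024a4b310
  (Net.cons 64 0xb24a4b310
  (Net.cons 32 0xf00000000f5bff314
  (Net.cons 16 0x18a700000a7300000284
  (Net.cons 8 0x7c008e0003005e00100008
  (Net.cons 4 0xc0004010103080701080002
  (Net.cons 2 0x3011210001131231100020311
  (Net.cons 1 0x5115411455515140401010400
  (Net.nil)))))))))))))

noncomputable def r3 : Net :=
  Net.cons 100 0x7cabc2221db820d03900c4027
  (Net.nil)

noncomputable def y3 : Net := catN r3 (a3_0.widen (ones 100 2))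

noncomputable def a4_0 : Net :=
  Net.cons 1 0x400450444405445040415140
  (Net.cons 2 0x3020101120123110310003100
  (Net.cons 4 0xe0c04050c01000909070409
  (Net.cons 8 0x8a0081006e007500410000
  (Net.cons 16 0xd2e3000001420000000d
  (Net.cons 32 0xaca041c0
  (Net.cons 64 0x1efa07bcd
  (Net.cons 32 0xf00000000551b3e89
  (Net.cons 16 0xe5c90000fa03000004ad
  (Net.cons 8 0x4f006b007c003c008f002e
  (Net.cons 4 0xc080b0c050a0d02000b0703
  (Net.cons 2 0x1030313211303322313112212
  (Net.cons 1 0x4451045155451140500045510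
  (Net.nil)))))))))))))

noncomputable def r4 : Net :=
  Net.cons 100 0x96de2585630e0d0c7a6426e48
  (Net.nil)

noncomputable def y4 : Net := catN r4 (a4_0.widen (ones 100 2))

noncomputable def a6_0 : Net :=
  Net.cons 1 0x4154550141440055050000000
  (Net.cons 2 0x3021021011002022022010000
  (Net.cons 4 0xc0704010a000a0605060005
  (Net.cons 8 0x4500500002008200040000
  (Net.cons 16 0x80260000901800000000
  (Net.cons 32 0xb0000000031008190
  (Net.cons 64 0xcf1ba9997
  (Net.cons 32 0xb00000000334083d0
  (Net.cons 16 0xb25e0000c08200007400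
  (Net.cons 8 0x5f00600092003a00140080
  (Net.cons 4 0x60d07090a08030e050e0005
  (Net.cons 2 0x3223121211202022033031000
  (Net.cons 1 0x4154550141440055050000000
  (Net.nil)))))))))))))

noncomputable def r6 : Net :=
  Net.cons 100 0x1dde0419a07ca84de083b82c4
  (Net.nil)

noncomputable def y6 : Net := catN r6 (a6_0.widen (ones 100 2))

noncomputable def a7_0 : Net :=
  Net.cons 1 0x1450110441540044450040000
  (Net.cons 2 0x3101002102220100031010000
  (Net.cons 4 0x30605050d03040d06000803
  (Net.cons 8 0x8005d0048001d00060004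
  (Net.cons 16 0xe0b10000720800000006
  (Net.cons 32 0x20000000082056020
  (Net.cons 64 0x5e7956727
  (Net.cons 32 0xf00000000c244396d
  (Net.cons 16 0xa9b40000361d00004106
  (Net.cons 8 0x18005c004a00dc000700e4
  (Net.cons 4 0x30605050d0b040d06000803
  (Net.cons 2 0x3101002102220100031010000
  (Net.cons 1 0x1450110451540044550040000
  (Net.nil)))))))))))))

noncomputable def r7 : Net :=
  Net.cons 100 0x676ee24272a13e654bd6e9431
  (Net.nil)

noncomputable def y7 : Net := catN r7 (a7_0.widen (ones 100 2))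

noncomputable def a8_0 : Net :=
  Net.cons 1 0x4514401005500005545550110
  (Net.cons 2 0x300030010033103000023120
  (Net.cons 4 0x2020f0507010a0e0b020100
  (Net.cons 8 0x3d00830025007b000a0009
  (Net.cons 16 0xea18000001060000000c
  (Net.cons 32 0x400000000d00c8940
  (Net.cons 64 0xad3ddbb64
  (Net.cons 32 0xf00000000837739e7
  (Net.cons 16 0x5fe50000883100009a2c
  (Net.cons 8 0x8a001600e8003d00520063
  (Net.cons 4 0x3020308050509000504030c
  (Net.cons 2 0x221021022312123012023222
  (Net.cons 1 0x5010041011014155111515410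
  (Net.nil)))))))))))))

noncomputable def r8 : Net :=
  Net.cons 100 0xe1535b8725504dd45f596da1
  (Net.nil)

noncomputable def y8 : Net := catN r8 (a8_0.widen (ones 100 2))

noncomputable def a10_0 : Net :=
  Net.cons 1 0x5051441451140010040111000
  (Net.cons 2 0x2012230013020232111020000
  (Net.cons 4 0x106060a04000701020c0204
  (Net.cons 8 0x6f007100d5002000000000
  (Net.cons 16 0x97350000110600000002
  (Net.cons 32 0x20000000034182120
  (Net.cons 64 0x4b77c35e6
  (Net.cons 32 0x700000000341a2b3c
  (Net.cons 16 0xdf770000d107000080c2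
  (Net.cons 8 0xef00f100d5002000800080
  (Net.cons 4 0x106060a040007050b0d0204
  (Net.cons 2 0x2012230013220232111020000
  (Net.cons 1 0x5051441411140010005111000
  (Net.nil)))))))))))))

noncomputable def r10 : Net :=
  Net.cons 100 0x292148401e0a0228003058000
  (Net.nil)

noncomputable def y10 : Net := catN r10 (a10_0.widen (ones 100 2))

noncomputable def a11_0 : Net :=
  Net.cons 1 0x140044550550151401001544
  (Net.cons 2 0x2132030220321213133121010
  (Net.cons 4 0x50e0a000100040605000000
  (Net.cons 8 0xc60070007900e900400003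
  (Net.cons 16 0x81a1000055b90000000e
  (Net.cons 32 0x9000000001cae8210
  (Net.cons 64 0x53dafee1a
  (Net.cons 32 0x600000000a917e81d
  (Net.cons 16 0x2c410000390a000010d3
  (Net.cons 8 0x4b009500ef004500c4005f
  (Net.cons 4 0x4060d00020b0d0407070000
  (Net.cons 2 0x2002200130110112312000002
  (Net.cons 1 0x1015155140504411041140540
  (Net.nil)))))))))))))

noncomputable def r11 : Net :=
  Net.cons 100 0x3b9777ecf6515a9ce1d090961
  (Net.nil)

noncomputable def y11 : Net := catN r11 (a11_0.widen (ones 100 2))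

noncomputable def a13_0 : Net :=
  Net.cons 1 0x1105011110051440044141050
  (Net.cons 2 0x3103210101211130201103000
  (Net.cons 4 0x70d00020b060e0602030400
  (Net.cons 8 0x730042006a002800c10008
  (Net.cons 16 0x5c830000900400000006
  (Net.cons 32 0x20000000062043c00
  (Net.cons 64 0xc7bce3ece
  (Net.cons 32 0x30000000068b5b420
  (Net.cons 16 0x56b30000980400004a06
  (Net.cons 8 0x770043006a006c00c1000c
  (Net.cons 4 0x70d00020f060f0702030400
  (Net.cons 2 0x3103210301231130221103000
  (Net.cons 1 0x1105011110051440044141050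
  (Net.nil)))))))))))))

noncomputable def r13 : Net :=
  Net.cons 100 0x292148401e0a022a00385c121
  (Net.nil)

noncomputable def y13 : Net := catN r13 (a13_0.widen (ones 100 2))

noncomputable def a14_0 : Net :=
  Net.cons 1 0x5450440101544555404545550
  (Net.cons 2 0x1333032310230122133131100
  (Net.cons 4 0xe0d0f0c090008010b070002
  (Net.cons 8 0x5400260036008900c10005
  (Net.cons 16 0xa92e0000080400000002
  (Net.cons 32 0x40000000063c03840
  (Net.cons 64 0xaf3e67ccc
  (Net.cons 32 0x30000000039c91ccc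
  (Net.cons 16 0x7c0a0000445100007825
  (Net.cons 8 0xa8008100ee00bf00db0001
  (Net.cons 4 0x4080603090e010b050402
  (Net.cons 2 0x3200020011313330213121120
  (Net.cons 1 0x1150440501551515511504154
  (Net.nil)))))))))))))

noncomputable def r14 : Net :=
  Net.cons 100 0x2000804121
  (Net.nil)

noncomputable def y14 : Net := catN r14 (a14_0.widen (ones 100 2))

noncomputable def a16_0 : Net :=
  Net.cons 1 0x1050114000451540010400050
  (Net.cons 2 0x22301202001001330212120
  (Net.cons 4 0x3070d0800070202050a0000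
  (Net.cons 8 0x1f00410062009000b80000
  (Net.cons 16 0x15060000462700000004
  (Net.cons 32 0x20000000000004510
  (Net.cons 64 0xb5c074590
  (Net.cons 32 0x60000000021a17e14
  (Net.cons 16 0xb67e0000c7270000810c
  (Net.cons 8 0x1e0041006200d500b90000
  (Net.cons 4 0x2070d0900070706050a0002
  (Net.cons 2 0x22301202001001330212120
  (Net.cons 1 0x1050114000455540010400050
  (Net.nil)))))))))))))

noncomputable def r16 : Net :=
  Net.nil

noncomputable def y16 : Net := catN r16 (a16_0.widen (ones 100 2))

noncomputable def a17_0 : Net :=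
  Net.cons 1 0x4401544005010150145001544
  (Net.cons 2 0x1111221100000120122301100
  (Net.cons 4 0x80b04050401050605060c0e
  (Net.cons 8 0x8900d100a200e9002c0008
  (Net.cons 16 0xd09d00003be100000000
  (Net.cons 32 0x20000000000711880
  (Net.cons 64 0x5bcf958ee
  (Net.cons 32 0xc00000000fa4809f0
  (Net.cons 16 0xff250000f9a4000051a0
  (Net.cons 8 0x9f000a00f3008a00350018
  (Net.cons 4 0x50708000909060f000a090c
  (Net.cons 2 0x1003332302003132121211300
  (Net.cons 1 0x5054115404450150540515540
  (Net.nil)))))))))))))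

noncomputable def r17 : Net :=
  Net.cons 100 0xade1a5562410612de5ef775b3
  (Net.nil)

noncomputable def y17 : Net := catN r17 (a17_0.widen (ones 100 2))

noncomputable def a19_0 : Net :=
  Net.cons 1 0x40510415411505414444114
  (Net.cons 2 0x2003301320202333112220210
  (Net.cons 4 0xc000009080c030100010c00
  (Net.cons 8 0x2e007e004b00b90010000c
  (Net.cons 16 0xa92c0000687c00000000
  (Net.cons 32 0x30000000003293090
  (Net.cons 64 0x38b6d3090
  (Net.cons 32 0xf000000002f567098
  (Net.cons 16 0x254c0000437d00001480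
  (Net.cons 8 0xbe007f00ca00b6004500ab
  (Net.cons 4 0xa0009090b02010a0c0d0c04
  (Net.cons 2 0x2020123120313320003331223
  (Net.cons 1 0x1141540050044004145554044
  (Net.nil)))))))))))))

noncomputable def r19 : Net :=
  Net.cons 100 0x3582a3668db350fc3f1f8002f
  (Net.nil)

noncomputable def y19 : Net := catN r19 (a19_0.widen (ones 100 2))

noncomputable def c0 : Net := Net.cons 100 (Nat.shiftLeft (Nat.pred (Nat.shiftLeft 1 100)) 0) (Net.nil)

noncomputable def Y : List Net := [y0, y1, y2, y3, y4, y4.rev, y6, y7, y8, y8.rev, y10, y11, y11.rev, y13, y14, y14.rev, y16, y17, y17.rev, y19, y19.rev, c0]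

def wit : List Wit := [([20, 5, 21, 6, 20, 5, 21, 6, 20, 5, 21, 6, 20, 5, 21, 6, 20, 5, 21, 6, 20, 5, 21, 6, 20, 5, 21, 6], [20, 21, 5, 6, 20, 21, 5, 6, 20, 21, 5, 6, 20, 21, 5, 6, 20, 21, 5, 6, 20, 21, 5, 6, 20, 21, 5, 6], 22)]

theorem Y_ok : allL (Net.ok 200) Y = true := by decide +kernel
theorem cen_0 : allRg (cenChk (stepT 200 8 Y) (idTab 200 8) [21]) 0 22 = true := by decide +kernel
theorem e_l6_0 : eqAllH (stepT 200 8 Y) (idTab 200 8) (maskOf [21]) L6.eqns [0, 0] = true := by decide +kernel
theorem e_x6_0 : eqAllH (stepT 200 8 Y) (idTab 200 8) (maskOf [21]) X6.eqns [] = true := by decide +kernel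
theorem e_l5_0 : eqAllH (stepT 200 8 Y) (idTab 200 8) (maskOf [21]) L5.eqns [0, 0, 0, 0] = true := by decide +kernel
theorem e_x5_0 : eqAllH (stepT 200 8 Y) (idTab 200 8) (maskOf [21]) X5.eqns [0] = true := by decide +kernel
theorem e_l4_0 : eqAllH (stepT 200 8 Y) (idTab 200 8) (maskOf [21]) L4.eqns [0, 0, 0, 0] = true := by decide +kernel
theorem e_x4_0 : eqAllH (stepT 200 8 Y) (idTab 200 8) (maskOf [21]) X4.eqns [0] = true := by decide +kernel
theorem e_l3_0 : eqAllH (stepT 200 8 Y) (idTab 200 8) (maskOf [21]) L3.eqns [22, 22, 22, 0, 22, 0] = true := by decide +kernel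
theorem e_x3_0 : eqAllH (stepT 200 8 Y) (idTab 200 8) (maskOf [21]) X3.eqns [0] = true := by decide +kernel
theorem e_l2_0 : eqAllH (stepT 200 8 Y) (idTab 200 8) (maskOf [21]) L2.eqns [0, 0, 0, 0, 0, 0, 0, 22] = true := by decide +kernel
theorem e_x2_0 : eqAllH (stepT 200 8 Y) (idTab 200 8) (maskOf [21]) X2.eqns [0, 0] = true := by decide +kernel
theorem e_l1_0 : eqAllH (stepT 200 8 Y) (idTab 200 8) (maskOf [21]) L1.eqns [0, 22, 22, 0, 22, 0, 22, 22, 0, 0, 0, 0, 22, 0, 22, 22] = true := by decide +kernel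
theorem e_x1_0 : eqAllH (stepT 200 8 Y) (idTab 200 8) (maskOf [21]) X1.eqns [0, 0, 0, 0] = true := by decide +kernel
theorem e_l0_0 : eqAllH (stepT 200 8 Y) (idTab 200 8) (maskOf [21]) L0.eqns [0, 22, 0, 0, 22, 22, 22, 0, 0, 0, 0, 22, 0] = true := by decide +kernel
theorem e_x0_0 : eqAllH (stepT 200 8 Y) (idTab 200 8) (maskOf [21]) X0.eqns [0, 0, 0, 0, 0] = true := by decide +kernel
theorem e_xd_0 : eqAllH (stepT 200 8 Y) (idTab 200 8) (maskOf [21]) XD.eqns [0, 0, 22, 22, 22, 0, 22, 22, 0, 22, 0, 0, 0, 22, 0, 0, 0] = true := by decide +kernel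
theorem e_mx_0 : eqAllH (stepT 200 8 Y) (idTab 200 8) (maskOf [21]) (L0.maxEqns MX) [22, 0] = true := by decide +kernel
theorem wit_ok : witOK 0x1fffff (stepT 100 7 W) (idTab 100 7) (stepT 200 8 Y) (idTab 200 8) wit = true := by decide +kernel
theorem lb_ok : Nat.ble 2 (lbVal (stepW (stepN Y) (wit.map fun w => w.2.2)) 200 [(0, 2, [1])] []) = true := by
  decide +kernel

theorem wmY : WM (permG 200 Y) (stepT 200 8 Y) (idTab 200 8) := WM.perm Y_ok (by norm_num)

theorem cen : Cen (permG 200 Y) (maskOf [21]) :=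
  cen_perm (K := 8) (T := 22) (by norm_num) Y_ok rfl (allRg_zero cen_0)

theorem low : Low (cl (permG 100 W) top) 2 := by
  have hm := exists_letters W_ok (inA_top E)
  let g : ℕ → cl (permG 100 W) top := fun m => ⟨_, hm m⟩
  have PM : PModel (cl (permG 100 W) top) 100 (finPt 100) := (pModel_perm 100 (by norm_num)).subgroup _
  have hg : ∀ m, Acts 100 (finPt 100) (nth Net.nil W m) (g m) := acts_permG W_ok
  have E1 : Eqs g := eqs_of_WM (PM.wm hg (by norm_num))
  have E2 : Eqs (fun m => (g m, cen.quo m)) :=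
    { l6 := E1.l6.prod (cen.allHold wmY e_l6_0)
      x6 := E1.x6.prod (cen.allHold wmY e_x6_0)
      l5 := E1.l5.prod (cen.allHold wmY e_l5_0)
      x5 := E1.x5.prod (cen.allHold wmY e_x5_0)
      l4 := E1.l4.prod (cen.allHold wmY e_l4_0)
      x4 := E1.x4.prod (cen.allHold wmY e_x4_0)
      l3 := E1.l3.prod (cen.allHold wmY e_l3_0)
      x3 := E1.x3.prod (cen.allHold wmY e_x3_0)
      l2 := E1.l2.prod (cen.allHold wmY e_l2_0)
      x2 := E1.x2.prod (cen.allHold wmY e_x2_0)
      l1 := E1.l1.prod (cen.allHold wmY e_l1_0)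
      x1 := E1.x1.prod (cen.allHold wmY e_x1_0)
      l0 := E1.l0.prod (cen.allHold wmY e_l0_0)
      x0 := E1.x0.prod (cen.allHold wmY e_x0_0)
      xd := E1.xd.prod (cen.allHold wmY e_xd_0)
      mx := E1.mx.prod (cen.allHold wmY e_mx_0) }
  let _ := fstAction (cl (permG 100 W) top) (cenA (permG 200 Y) (maskOf [21]) ⧸ Subgroup.center _) (Fin 100)
  obtain ⟨ρ, hρ⟩ := exists_hom_of_card (cl_lift hm)
    ((card (sm_prod _ (PM.sm hg)) E2).trans card_perm.symm)
  exact low_of_perm PM hg (by norm_num) (by norm_num) (by norm_num) Y_ok cen ρ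
    (fun m h => hρ _ (inA_top E2 m h)) wit_ok lb_ok

end CfsgLib.MultC.J2.Cov
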