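import Mathlib
import Cfsg.Agent.Lib.MultC.J2.Base

/-! multiplier certificate for the prime 3 (generated) -/

set_option autoImplicit false
set_option maxRecDepth 100000
set_option Elab.async false

namespace CfsgLib.MultC.J2.P3

open CfsgLib.Comput CfsgLib.MultC

noncomputable def x0 : Net :=
  Net.cons 1 0x4440511001114414445441010
  (Net.cons 2 0x2020312030000031012312020
  (Net.cons 4 0x80b040604020d0806020004
  (Net.cons 8 0x1700e900d600d10096000e
  (Net.cons 16 0x28c1000065190000000d
  (Net.cons 32 0x1000000008c5728a0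
  (Net.cons 64 0xeac77eba1
  (Net.cons 32 0xb0000000070c189a9
  (Net.cons 16 0x7f4100008e1a0000e87d
  (Net.cons 8 0x29001e00650020004a00f4
  (Net.cons 4 0xa03000c040504070b0b0704
  (Net.cons 2 0x223102312310133303332
  (Net.cons 1 0x5141141401414151054550500
  (Net.nil)))))))))))))

noncomputable def x1 : Net :=
  Net.cons 1 0x454041451511045505140050
  (Net.cons 2 0x2301333221302200323223020
  (Net.cons 4 0xc020a090f01050709050c00
  (Net.cons 8 0xb40003004400c800840004
  (Net.cons 16 0x3edc0000822400000008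
  (Net.cons 32 0x1000000003da2a700
  (Net.cons 64 0x93de2af9e
  (Net.cons 32 0x600000000486374bc
  (Net.cons 16 0x67b50000f96400005008
  (Net.cons 8 0x8f00c60099002f000d0094
  (Net.cons 4 0x70c0e0f0e0c070607040804
  (Net.cons 2 0x2323032320030130031222300
  (Net.cons 1 0x544441051405005141055454
  (Net.nil)))))))))))))

noncomputable def x2 : Net :=
  Net.cons 1 0x445555551404045145510440
  (Net.cons 2 0x1220110200331131310022020
  (Net.cons 4 0x20f090709070505090c0a01
  (Net.cons 8 0xe000670013000600500002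
  (Net.cons 16 0x2540000451400000004
  (Net.cons 32 0x30000000004c00110
  (Net.cons 64 0x494d997b7
  (Net.cons 32 0x8000000008683d017
  (Net.cons 16 0xb281000011da00001e05
  (Net.cons 8 0xa900a1006d00d000400083
  (Net.cons 4 0x1090d020106050500090601
  (Net.cons 2 0x2031031311122011000032020
  (Net.cons 1 0x111550114451011104514050
  (Net.nil)))))))))))))

noncomputable def x3 : Net :=
  Net.cons 1 0x5141040141454045000410100
  (Net.cons 2 0x3200011002332322233100100
  (Net.cons 4 0x3050b070d060e060a080c05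
  (Net.cons 8 0xe002f0001008200030000
  (Net.cons 16 0x383000002a600000003
  (Net.cons 32 0x12011100
  (Net.cons 64 0x613899125
  (Net.cons 32 0xb000000007220bb8b
  (Net.cons 16 0x8f880000ea450000342b
  (Net.cons 8 0xe006f00e100e6004b00c8
  (Net.cons 4 0xb0501070704040e0808060d
  (Net.cons 2 0x1000033002112322133302100
  (Net.cons 1 0x1141000141555045514510110
  (Net.nil)))))))))))))

noncomputable def X : List Net := [x0, x1, x2, x3]

def D : Dat := ⟨2, 3, 2,
  0x10400500,
  3, 0x10101,
  0x10212,
  0, 3⟩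

def R0 : List (ℕ × ℕ × ℕ × List ℕ) := [(8, 1, 0, [82])]
def R1 : List (ℕ × List ℕ × List ℕ × List ℕ) := [(0, [1, 1, 1], [], [33]),
  (0, [1, 2], [2, 1], [65]),
  (0, [0, 2], [2, 0], [49]),
  (0, [0, 0, 0], [], [1, 81])]

noncomputable def A : LA := ⟨8, [[18, 97], [113], [17]],
  [], [],
  Dat.sps R0 ++ (Dat.sps R1),
  [0x20002,
  0,
  32,
  0x2000,
  512,
  1],
  []⟩

def lv : LB := [(1, 1, [3, 3, 2, 2, 1, 1])]

theorem r0 : D.consAll 8 R0 = true := by decide +kernel
theorem r1 : D.fusAll 8 R1 = true := by decide +kernel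
theorem xw : wordsOK 100 7 U X [[0xd100f1212111216], [0xd0e0e11], [0xe1213], [0x1312111215]] = true := by decide +kernel
theorem c1_0 : allRg (D.rowChk (stepT 100 7 X) (idTab 100 7)) 0 3 = true := by decide +kernel
theorem c2_0 : allRg (D.fusChk (stepT 100 7 X) (idTab 100 7)) 0 3 = true := by decide +kernel
theorem c3 : lbOK 100 X 3 (3 ^ 3) lv = true := by decide +kernel
theorem c4 : D.basicOK A = true := by decide +kernel
theorem c5_0 : allRg (D.rowOK A) 0 3 = true := by decide +kernel

theorem pb {G : Type*} {Ω : Type*} [Group G] [MulAction G Ω] {pt : ℕ → Ω} (M : PModel G 100 pt)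
    (h : AllReal G 100 pt V0) (hG : Nat.card G = 604800) : PBound G 3 [] :=
  M.pBound (W := X) (k := 7) (D := D) (A := A) ((realU h).words (by norm_num) xw) (by norm_num) (by norm_num) rfl 0 rfl
    (by decide) rfl (by decide) (allRg_zero c1_0) (allRg_zero c2_0) c3 hG
    (by decide +kernel) ((D.allGood_cons 8 R0 (by norm_num) r0).append (D.allGood_fus 8 R1 (by norm_num) r1)) c4 (allRg_zero c5_0)

end CfsgLib.MultC.J2.P3
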