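import Mathlib
import Cfsg.Agent.Lib.MultC.J2.Base

/-! multiplier certificate for the prime 5 (generated) -/

set_option autoImplicit false
set_option maxRecDepth 100000
set_option Elab.async false

namespace CfsgLib.MultC.J2.P5

open CfsgLib.Comput CfsgLib.MultC

noncomputable def x0 : Net :=
  Net.cons 1 0x4004555044444145144410550
  (Net.cons 2 0x3132323100232102113103330
  (Net.cons 4 0xb0405060b02040408030e06
  (Net.cons 8 0x1a005d00f200070069000d
  (Net.cons 16 0xe0d30000091200000009
  (Net.cons 32 0x2000000000b149080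
  (Net.cons 64 0x8ff15d0cb
  (Net.cons 32 0xd00000000d10b05c0
  (Net.cons 16 0x4da80000c6f200004a28
  (Net.cons 8 0x4f00fc00990003000f0099
  (Net.cons 4 0xa000d04000a010204040508
  (Net.cons 2 0x1233220002132210002011030
  (Net.cons 1 0x1005551144455500140015054
  (Net.nil)))))))))))))

noncomputable def x1 : Net :=
  Net.cons 1 0x554501100515154511101100
  (Net.cons 2 0x1012320302112123313100
  (Net.cons 4 0xa0d070109040a090008040c
  (Net.cons 8 0x7e008d002f007300f00001
  (Net.cons 16 0x4430000340500000001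
  (Net.cons 32 0x10000000028991990
  (Net.cons 64 0xeeefd7b9d
  (Net.cons 32 0xe00000000573b302a
  (Net.cons 16 0x14ec0000f5a70000a728
  (Net.cons 8 0x6b00f7006c00af00f800a9
  (Net.cons 4 0xc0601090d0a02020f0d0200
  (Net.cons 2 0x231222203021201333312132
  (Net.cons 1 0x450014111440555405441100
  (Net.nil)))))))))))))

noncomputable def x2 : Net :=
  Net.cons 1 0x1140015511050154500114104
  (Net.cons 2 0x3200222202322300222121120
  (Net.cons 4 0xe05040e030a0709010e0b08
  (Net.cons 8 0x8a0001006000310033000c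
  (Net.cons 16 0xcc830000800600000005
  (Net.cons 32 0x100000000ae891610
  (Net.cons 64 0x8feef96b1
  (Net.cons 32 0x60000000022d0fc77
  (Net.cons 16 0x40bb000029640000437e
  (Net.cons 8 0xe7007a00fe00a2008d00a3
  (Net.cons 4 0x9030001000e020709030e0a
  (Net.cons 2 0x220111102302331312012323
  (Net.cons 1 0x1450554410444050115101054
  (Net.nil)))))))))))))

noncomputable def x3 : Net :=
  Net.cons 1 0x1004051045404011500004000
  (Net.cons 2 0x3003213221102211100300000
  (Net.cons 4 0xe0e0e070a0e050a000000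
  (Net.cons 8 0x91007a00c4003800190000
  (Net.cons 16 0x18960000100100000001
  (Net.cons 32 0x8341040
  (Net.cons 64 0xdc8f67465
  (Net.cons 32 0x2000000003d151060
  (Net.cons 16 0x993e0000d22100000039
  (Net.cons 8 0x5100fa00c4003800d90000
  (Net.cons 4 0xe0e0e070a0f050a000000
  (Net.cons 2 0x3003213221102213100300000
  (Net.cons 1 0x1044051045404011500044040
  (Net.nil)))))))))))))

noncomputable def X : List Net := [x0, x1, x2, x3]

def D : Dat := ⟨3, 2, 4,
  512,
  4, 0x201201,
  0x980d0,
  0x1100, 5⟩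

def R0 : List (ℕ × List ℕ × List ℕ × List ℕ) := [(0, [0, 0, 0, 0, 0], [], [4, 34]),
  (0, [0, 1], [1, 0], [19]),
  (1, [3, 3, 3, 3, 3], [], [2, 36])]

noncomputable def A : LA := ⟨12, [[50, 82], [52, 81]],
  [], [],
  Dat.sps R0,
  [259,
  48,
  769],
  []⟩

def lv : LB := [(0, 1, [2, 2, 2, 2, 1, 1, 1, 1])]

theorem r0 : D.fusAll 12 R0 = true := by decide +kernel
theorem xw : wordsOK 100 7 U X [[0x9020c0d0e0e111116], [0x104090f0e0e141112111116], [0x1090a0e0e13141115], [0x40b0a030d10111112111116]] = true := by decide +kernel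
theorem c1_0 : allRg (D.rowChk (stepT 100 7 X) (idTab 100 7)) 0 2 = true := by decide +kernel
theorem c2_0 : allRg (D.fusChk (stepT 100 7 X) (idTab 100 7)) 0 4 = true := by decide +kernel
theorem c3 : lbOK 100 X 2 (5 ^ 2) lv = true := by decide +kernel
theorem c4 : D.basicOK A = true := by decide +kernel
theorem c5_0 : allRg (D.rowOK A) 0 2 = true := by decide +kernel

theorem pb {G : Type*} {Ω : Type*} [Group G] [MulAction G Ω] {pt : ℕ → Ω} (M : PModel G 100 pt)
    (h : AllReal G 100 pt V0) (hG : Nat.card G = 604800) : PBound G 5 [] :=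
  M.pBound (W := X) (k := 7) (D := D) (A := A) ((realU h).words (by norm_num) xw) (by norm_num) (by norm_num) rfl 0 rfl
    (by decide) rfl (by decide) (allRg_zero c1_0) (allRg_zero c2_0) c3 hG
    (by decide +kernel) (D.allGood_fus 12 R0 (by norm_num) r0) c4 (allRg_zero c5_0)

end CfsgLib.MultC.J2.P5
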